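import Groth.Agent.Lib.QCohQuot20.Untwist
import Groth.Agent.Lib.RegSheaf.Pn
import Groth.Agent.Lib.Ample.ModTwistQcoh
import Groth.Agent.Lib.HomColim20.FP

/-!
# Quasi-coherent modules on relative projective space are quotients of twisted pullbacks
-/

universe u

set_option backward.isDefEq.respectTransparency false
set_option linter.style.haveILetI false
set_option maxHeartbeats 1000000

open AlgebraicGeometry CategoryTheory CategoryTheory.Limits TopologicalSpace Opposite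
open GrothLib.InvExt (mres)
open GrothLib.Ample (Cocycle res app_mres app_smul)
open GrothLib.QCoh (stalkLin)

noncomputable section

namespace GrothLib.QCohQuot20

variable (n : ℕ) (Y : Scheme.{u})

open GrothLib.RegSheaf (cT aT)

theorem nonempty_cT_twist_iso : ∀ m : ℕ,
    Nonempty ((cT n Y).twist (m + 1) ≅ Twist.twistOver n Y ((m + 1 : ℕ) : ℤ)) := by
  intro m
  induction m with
  | zero => exact ⟨(RegSheaf.nonempty_twist_iso n Y).some.symm⟩
  | succ m ih =>
    obtain ⟨e⟩ := ih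
    obtain ⟨e₁⟩ := (cT n Y).nonempty_tensor_twist (m + 1) 1
    obtain ⟨g⟩ := RegSheaf.nonempty_twist_iso n Y
    obtain ⟨e₂⟩ := RegSheaf.nonempty_twist_add (n := n) (T := Y) (a := ((m + 1 : ℕ) : ℤ)) (b := 1)
      (c := ((m + 1 + 1 : ℕ) : ℤ)) (by push_cast; rfl)
    exact ⟨e₁.symm ≪≫ Ample.LineData.tensorModMapIso e g.symm ≪≫ e₂⟩

variable {n Y}

/-- Twisting up a twisted-down module gives the module back. -/
theorem nonempty_modTwist_negTwist (P : (KRR.PY n Y).Modules) (m : ℕ) :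
    Nonempty ((cT n Y).modTwist (CohB1.tensorMod P (Twist.twistOver n Y (-(((m + 1 : ℕ)) : ℤ)))) (m + 1) ≅ P) := by
  let d : ℤ := ((m + 1 : ℕ) : ℤ)
  let T := CohB1.tensorMod P (Twist.twistOver n Y (-d))
  obtain ⟨e⟩ := (cT n Y).nonempty_tensor_modTwist T (m + 1)
  obtain ⟨g⟩ := nonempty_cT_twist_iso n Y m
  let e₁ : CohB1.tensorMod T ((cT n Y).twist (m + 1)) ≅ KRR.twF n Y d T :=
    Ample.LineData.tensorModMapIso (Iso.refl T) g ≪≫ GrTilde.tensorModComm T (Twist.twistOver n Y d)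
  let e₂ : T ≅ KRR.twF n Y (-d) P := GrTilde.tensorModComm P (Twist.twistOver n Y (-d))
  obtain ⟨e₃⟩ := RegSheaf.nonempty_twF_twF (n := n) (T := Y) (add_neg_cancel d) P
  obtain ⟨e₄⟩ := RegSheaf.nonempty_twF_zero (n := n) (T := Y) P
  exact ⟨e.symm ≪≫ e₁ ≪≫ ((DCoh.tensorBi (X := KRR.PY n Y)).obj _).mapIso e₂ ≪≫ e₃ ≪≫ e₄⟩

variable (F : (KRR.PY n Y).Modules)

/-- The modules pushed down. -/
abbrev base (m : ℕ) : Y.Modules :=
  (Scheme.Modules.pushforward (KRR.pr n Y)).obj ((cT n Y).modTwist F (m + 1))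

/-- The twisted pullbacks. -/
abbrev term (m : ℕ) : (KRR.PY n Y).Modules :=
  CohB1.tensorMod ((Scheme.Modules.pullback (KRR.pr n Y)).obj (base F m))
    (Twist.twistOver n Y (-(((m + 1 : ℕ)) : ℤ)))

theorem exists_gen (m : ℕ) : ∃ (ψ : term F m ⟶ F)
    (e : (cT n Y).modTwist (term F m) (m + 1) ≅ (Scheme.Modules.pullback (KRR.pr n Y)).obj (base F m)),
    (cT n Y).mtwistMap ψ (m + 1) = e.hom ≫ RegSheaf.ev (KRR.pr n Y) ((cT n Y).modTwist F (m + 1)) := by
  obtain ⟨e⟩ := nonempty_modTwist_negTwist ((Scheme.Modules.pullback (KRR.pr n Y)).obj (base F m)) m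
  obtain ⟨ψ, hψ⟩ := exists_mtwistMap_eq (cT n Y)
    (e.hom ≫ RegSheaf.ev (KRR.pr n Y) ((cT n Y).modTwist F (m + 1)))
  exact ⟨ψ, e, hψ⟩

/-- The generators. -/
def gen (m : ℕ) : term F m ⟶ F := (exists_gen F m).choose

theorem app_eq_zero {Z : (KRR.PY n Y).Modules} (q : F ⟶ Z) (m : ℕ) (h : gen F m ≫ q = 0)
    {V : Y.Opens} (B : (cT n Y).msect F (m + 1) (KRR.pr n Y ⁻¹ᵁ V)) (i : (cT n Y).ι) :
    q.app _ (B.1 i) = 0 := by
  obtain ⟨e, he⟩ := (exists_gen F m).choose_spec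
  let M := (cT n Y).modTwist F (m + 1)
  let p := KRR.pr n Y
  have h1 : RegSheaf.ev p M ≫ (cT n Y).mtwistMap q (m + 1) = 0 := by
    apply (cancel_epi e.hom).1
    rw [← Category.assoc, ← he, ← SerreVanish.mtwistMap_comp, comp_zero]
    show (cT n Y).mtwistMap (gen F m ≫ q) (m + 1) = 0
    rw [h]
    refine Scheme.Modules.hom_ext _ _ fun W => ?_
    ext (b : (cT n Y).msect (term F m) (m + 1) W)
    exact (cT n Y).msect_ext fun j => rfl
  have h2 : (RegSheaf.ev p M).app (p ⁻¹ᵁ V)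
      (((Scheme.Modules.pullbackPushforwardAdjunction p).unit.app
        ((Scheme.Modules.pushforward p).obj M)).app V B) = B :=
    congrArg (fun φ : (Scheme.Modules.pushforward p).obj M ⟶ _ => φ.app V B)
      ((Scheme.Modules.pullbackPushforwardAdjunction p).right_triangle_components M)
  have h3 : ((cT n Y).mtwistMap q (m + 1)).app (p ⁻¹ᵁ V) B = 0 := by
    exact (congrArg (((cT n Y).mtwistMap q (m + 1)).app (p ⁻¹ᵁ V)) h2).symm.trans
      (congrArg (fun φ : (Scheme.Modules.pullback p).obj ((Scheme.Modules.pushforward p).obj M) ⟶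
        (cT n Y).modTwist Z (m + 1) => φ.app (p ⁻¹ᵁ V)
          (((Scheme.Modules.pullbackPushforwardAdjunction p).unit.app
            ((Scheme.Modules.pushforward p).obj M)).app V B)) h1)
  exact congrArg (fun t : (cT n Y).msect Z (m + 1) (p ⁻¹ᵁ V) => t.1 i) h3

theorem epi_desc [F.IsQuasicoherent] : Epi (Sigma.desc fun m : ULift.{u} ℕ => gen F m.down) := by
  refine Preadditive.epi_of_cancel_zero _ fun {Z} q hq => ?_
  have hgen : ∀ m : ℕ, gen F m ≫ q = 0 := fun m => by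
    have := congrArg (Sigma.ι (fun m : ULift.{u} ℕ => term F m.down) ⟨m⟩ ≫ ·) hq
    simpa only [Sigma.ι_desc_assoc, comp_zero] using this
  refine HomColim20.hom_ext_stalkLin fun x v => ?_
  let c := cT n Y
  let p := KRR.pr n Y
  obtain ⟨V, hV, hxV, -⟩ := Opens.isBasis_iff_nbhd.1 Y.isBasis_affineOpens (Opens.mem_top (p x))
  obtain ⟨l, hl, hxl⟩ := RegSheaf.covers n Y x
  have hA := RegSheaf.isAffineOpen_inf_locus n Y hV hl
  have hxA : x ∈ p ⁻¹ᵁ V ⊓ c.locus (aT n Y l) := ⟨hxV, hxl⟩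
  obtain ⟨u, z, hu, hz⟩ := WeakAss.exists_smul_eq_germ hA hxA v
  have huu := (Scheme.mem_basicOpen _ u x hxA).1 (WeakAss.notMem_primeAt_iff.1 hu)
  haveI : QuasiCompact p := by
    haveI := Chow.isProper_toBase n Y
    exact inferInstanceAs (QuasiCompact (CohB1.ProjSpaceOver.toBase n Y))
  have hcpt : IsCompact ((p ⁻¹ᵁ V : (KRR.PY n Y).Opens) : Set (KRR.PY n Y)) :=
    QuasiCompact.isCompact_preimage (f := p) (V : Set Y) V.2 hV.isCompact
  have hqs : IsQuasiSeparated ((p ⁻¹ᵁ V : (KRR.PY n Y).Opens) : Set (KRR.PY n Y)) :=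
    p.isQuasiSeparated_preimage hV.isQuasiSeparated
  obtain ⟨m, B, hB⟩ := RegSheaf.exists_extend c (aT n Y l) hcpt (fun W W' hW hW' hWa hWa' =>
    hqs _ _ hW W.2 hWa.isCompact hW' W'.2 hWa'.isCompact) z
  obtain ⟨i, hxi⟩ := c.exists_mem x
  let A := p ⁻¹ᵁ V ⊓ c.locus (aT n Y l)
  have hz0 : q.app (A ⊓ c.D i) (mres F inf_le_left z) = 0 := by
    have h0 := app_eq_zero F q m (hgen m) B i
    let r := res (inf_le_inf_right (c.D i) (le_top : A ≤ ⊤)) ((aT n Y l).1 i)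
    have e : mres F (inf_le_inf_right _ inf_le_left : A ⊓ c.D i ≤ p ⁻¹ᵁ V ⊓ c.D i) (B.1 i) =
        r ^ (m + 1) • mres F (inf_le_left : A ⊓ c.D i ≤ A) z :=
      congrArg (fun t : c.msect F (m + 1) A => t.1 i) hB
    have h1 : r ^ (m + 1) • q.app (A ⊓ c.D i) (mres F inf_le_left z) = 0 := by
      rw [← app_smul, ← e, app_mres, h0]
      exact map_zero _
    have hr : IsUnit r := by
      refine (KRR.PY n Y).toRingedSpace.isUnit_of_isUnit_germ _ _ fun y hy => ?_
      refine (Scheme.mem_basicOpen _ _ _ hy).1 ?_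
      rw [Scheme.basicOpen_res]
      exact ⟨hy, (c.mem_locus_iff (aT n Y l) hy.2).1 hy.1.2⟩
    exact (hr.pow (m + 1)).smul_eq_zero.1 h1
  have h4 : stalkLin q x (F.presheaf.germ A x hxA z) = 0 := by
    rw [← TopCat.Presheaf.germ_res_apply F.presheaf (homOfLE (inf_le_left : A ⊓ c.D i ≤ A)) x ⟨hxA, hxi⟩ z]
    refine (QCoh.stalkLin_germ q _ _).trans ?_
    erw [hz0]
    exact map_zero _
  rw [← hz, map_smul] at h4
  rw [(huu.smul_eq_zero).1 h4]
  exact (LinearMap.congr_fun (congrArg ModuleCat.Hom.hom ((OX.stalk x).map_zero _ _)) v).symm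

theorem exists_quotient (hF : Coh.IsQCoh F) :
    ∃ (ι : Type u) (G : ι → Y.Modules) (m : ι → ℕ)
      (p : (∐ fun j => CohB1.tensorMod ((Scheme.Modules.pullback (CohB1.ProjSpaceOver.toBase n Y)).obj (G j))
        (Twist.twistOver n Y (-((m j : ℕ) : ℤ)))) ⟶ F),
      (∀ j, Coh.IsQCoh (G j)) ∧ (∀ j, 0 < m j) ∧ Epi p := by
  haveI : F.IsQuasicoherent := hF
  refine ⟨ULift.{u} ℕ, fun j => base F j.down, fun j => j.down + 1,
    Sigma.desc fun j => gen F j.down, fun j => ?_, fun j => Nat.succ_pos _, epi_desc F⟩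
  haveI := Chow.isProper_toBase n Y
  haveI : QuasiCompact (KRR.pr n Y) := inferInstanceAs (QuasiCompact (CohB1.ProjSpaceOver.toBase n Y))
  haveI := Ample.Cocycle.isQuasicoherent_modTwist (cT n Y) (M := F) (j.down + 1)
  exact QCoh.isQuasicoherent_pushforward (KRR.pr n Y) _

end GrothLib.QCohQuot20
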