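import Groth.Agent.Lib.Ample.ModTwistMap

/-!
# Twisting by a cocycle is full
-/

universe u

set_option backward.isDefEq.respectTransparency false

open AlgebraicGeometry CategoryTheory CategoryTheory.Limits TopologicalSpace Opposite
open GrothLib.InvExt (mres)
open GrothLib.Ample (Cocycle res meq_of_cover app_mres app_smul mres_smul')

noncomputable section

namespace GrothLib.QCohQuot20

variable {X : Scheme.{u}} (c : Cocycle X) {M N : X.Modules} {n : ℕ}

variable (g : c.modTwist M n ⟶ c.modTwist N n)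

/-- A morphism of twists on families. -/
def gApp {V : X.Opens} (b : c.msect M n V) : c.msect N n V := g.app V b

theorem gApp_msectRes {V W : X.Opens} (h : W ≤ V) (b : c.msect M n V) :
    gApp c g (c.msectRes h b) = c.msectRes h (gApp c g b) :=
  app_mres g h b

theorem gApp_smul {V : X.Opens} (r : Γ(X, V)) (b : c.msect M n V) :
    gApp c g (r • b) = r • gApp c g b :=
  app_smul g r b

theorem gApp_add {V : X.Opens} (a b : c.msect M n V) :
    gApp c g (a + b) = gApp c g a + gApp c g b :=
  map_add (g.app V).hom a b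

theorem msectRes_mbase (i : c.ι) {V W : X.Opens} (hV : V ≤ c.D i) (h : W ≤ V) (μ : Γ(M, V)) :
    c.msectRes h (c.mbase n i hV μ) = c.mbase n i (h.trans hV) (mres M h μ) :=
  c.msect_ext_of_le (h.trans hV) (by
    simp only [Cocycle.msectRes_apply, Cocycle.mbase_self, InvExt.mres_mres])

theorem mbase_smul (i : c.ι) {W : X.Opens} (hW : W ≤ c.D i) (r : Γ(X, W)) (μ : Γ(M, W)) :
    c.mbase n i hW (r • μ) = r • c.mbase n i hW μ :=
  c.msect_ext_of_le hW (by rw [Cocycle.mbase_self, Cocycle.msmul_apply, Cocycle.mbase_self, mres_smul'])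

theorem mbase_add (i : c.ι) {W : X.Opens} (hW : W ≤ c.D i) (μ ν : Γ(M, W)) :
    c.mbase n i hW (μ + ν) = c.mbase n i hW μ + c.mbase n i hW ν :=
  c.msect_ext_of_le hW (by
    show (c.mbase n i hW (μ + ν)).1 i = (c.mbase n i hW μ).1 i + (c.mbase n i hW ν).1 i
    rw [Cocycle.mbase_self, Cocycle.mbase_self, Cocycle.mbase_self]
    exact map_add _ _ _)

/-- The candidate for the untwisted morphism over a piece of `D i`. -/
def part (i : c.ι) {W : X.Opens} (hW : W ≤ c.D i) (μ : Γ(M, W)) : Γ(N, W) :=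
  mres N (le_inf le_rfl hW) ((gApp c g (c.mbase n i hW μ)).1 i)

theorem mres_part (i : c.ι) {V W : X.Opens} (hV : V ≤ c.D i) (h : W ≤ V) (μ : Γ(M, V)) :
    mres N h (part c g i hV μ) = part c g i (h.trans hV) (mres M h μ) := by
  simp only [part, ← msectRes_mbase c i hV h, gApp_msectRes, Cocycle.msectRes_apply, InvExt.mres_mres]

theorem part_smul (i : c.ι) {W : X.Opens} (hW : W ≤ c.D i) (r : Γ(X, W)) (μ : Γ(M, W)) :
    part c g i hW (r • μ) = r • part c g i hW μ := by
  rw [part, mbase_smul, gApp_smul, Cocycle.msmul_apply, mres_smul', Ample.res_res, Ample.res_self]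
  rfl

theorem part_add (i : c.ι) {W : X.Opens} (hW : W ≤ c.D i) (μ ν : Γ(M, W)) :
    part c g i hW (μ + ν) = part c g i hW μ + part c g i hW ν := by
  rw [part, mbase_add, gApp_add]
  exact map_add _ _ _

theorem part_eq (i j : c.ι) {W : X.Opens} (hi : W ≤ c.D i) (hj : W ≤ c.D j) (μ : Γ(M, W)) :
    part c g i hi μ = part c g j hj μ := by
  have hb : c.mbase n j hj μ = c.G i j hi hj ^ n • c.mbase n i hi μ := by
    refine c.msect_ext_of_le hi ?_
    rw [Cocycle.msmul_apply, Cocycle.mbase_self, map_pow, Ample.Cocycle.res_G]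
    rfl
  have h1 := c.msect_spec (gApp c g (c.mbase n j hj μ)) i j (W := W) (le_inf le_rfl hi) (le_inf le_rfl hj)
  have h2 : mres N (le_inf le_rfl hi) ((gApp c g (c.mbase n j hj μ)).1 i) =
      c.G i j hi hj ^ n • part c g i hi μ := by
    rw [hb, gApp_smul, Cocycle.msmul_apply, mres_smul', Ample.res_res, Ample.res_self]
    rfl
  exact ((c.isUnit_G i j hi hj).pow n).smul_left_cancel.1 (h2.symm.trans h1)

theorem existsUnique_untw {V : X.Opens} (μ : Γ(M, V)) :
    ∃! ν : Γ(N, V), ∀ i, mres N (inf_le_left : V ⊓ c.D i ≤ V) ν =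
      part c g i inf_le_right (mres M inf_le_left μ) :=
  TopCat.Sheaf.existsUnique_gluing' ⟨N.presheaf, N.isSheaf⟩ (fun i => V ⊓ c.D i) V
    (fun _ => homOfLE inf_le_left) (c.iSup_inf_D V)
    (fun i => part c g i inf_le_right (mres M inf_le_left μ)) fun i j => by
      show mres N (inf_le_left : (V ⊓ c.D i) ⊓ (V ⊓ c.D j) ≤ V ⊓ c.D i) _ =
        mres N (inf_le_right : (V ⊓ c.D i) ⊓ (V ⊓ c.D j) ≤ V ⊓ c.D j) _
      rw [mres_part, mres_part, InvExt.mres_mres, InvExt.mres_mres]
      exact part_eq c g i j _ _ _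

/-- The untwisted morphism on sections. -/
def untwApp {V : X.Opens} (μ : Γ(M, V)) : Γ(N, V) := (existsUnique_untw c g μ).exists.choose

theorem untwApp_spec {V : X.Opens} (μ : Γ(M, V)) (i : c.ι) :
    mres N (inf_le_left : V ⊓ c.D i ≤ V) (untwApp c g μ) =
      part c g i inf_le_right (mres M inf_le_left μ) :=
  (existsUnique_untw c g μ).exists.choose_spec i

theorem untwApp_eq {V : X.Opens} (μ : Γ(M, V)) (ν : Γ(N, V))
    (h : ∀ i, mres N (inf_le_left : V ⊓ c.D i ≤ V) ν = part c g i inf_le_right (mres M inf_le_left μ)) :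
    untwApp c g μ = ν :=
  (existsUnique_untw c g μ).unique (untwApp_spec c g μ) h

/-- The untwisted morphism. -/
def untw : M ⟶ N :=
  ⟨{
    app := fun V => ModuleCat.ofHom
      (X := (M.val.obj V : Type u))
      (Y := (N.val.obj V : Type u))
      { toFun := fun (μ : Γ(M, V.unop)) => untwApp c g μ
        map_add' := fun (μ μ' : Γ(M, V.unop)) => untwApp_eq c g _ _ fun i => by
          show mres N (inf_le_left : V.unop ⊓ c.D i ≤ V.unop) (untwApp c g μ + untwApp c g μ') = _
          rw [show mres M (inf_le_left : V.unop ⊓ c.D i ≤ V.unop) (μ + μ') = _ from map_add _ _ _,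
            part_add, ← untwApp_spec, ← untwApp_spec]
          exact map_add _ _ _
        map_smul' := fun (r : Γ(X, V.unop)) (μ : Γ(M, V.unop)) => untwApp_eq c g _ _ fun i => by
          show mres N (inf_le_left : V.unop ⊓ c.D i ≤ V.unop) (r • untwApp c g μ) = _
          rw [mres_smul', untwApp_spec, ← part_smul, ← mres_smul'] }
    naturality := fun {V W} f => by
      ext (μ : Γ(M, V.unop))
      refine untwApp_eq c g _ _ fun i => ?_
      show mres N (inf_le_left : W.unop ⊓ c.D i ≤ W.unop) (mres N (leOfHom f.unop) (untwApp c g μ)) = _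
      rw [InvExt.mres_mres, ← InvExt.mres_mres N (inf_le_left : V.unop ⊓ c.D i ≤ V.unop)
        (inf_le_inf_right _ (leOfHom f.unop) : W.unop ⊓ c.D i ≤ V.unop ⊓ c.D i), untwApp_spec,
        mres_part, InvExt.mres_mres]
      exact congrArg _ (InvExt.mres_mres M _ _ _).symm }⟩

theorem mtwistMap_untw : c.mtwistMap (untw c g) n = g :=
  Scheme.Modules.hom_ext _ _ fun V => by
    ext (b : c.msect M n V)
    refine c.msect_ext fun i => ?_
    show untwApp c g (b.1 i) = (gApp c g b).1 i
    refine untwApp_eq c g _ _ fun j => ?_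
    rw [part_eq c g j i inf_le_right (inf_le_left.trans inf_le_right), part]
    have hb : c.mbase n i (inf_le_left.trans inf_le_right)
        (mres M (inf_le_left : (V ⊓ c.D i) ⊓ c.D j ≤ V ⊓ c.D i) (b.1 i)) =
        c.msectRes (inf_le_left.trans inf_le_left : (V ⊓ c.D i) ⊓ c.D j ≤ V) b := by
      refine c.msect_ext_of_le (inf_le_left.trans inf_le_right) ?_
      rw [Cocycle.mbase_self, Cocycle.msectRes_apply, InvExt.mres_mres]
    rw [hb, gApp_msectRes, Cocycle.msectRes_apply, InvExt.mres_mres]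

/-- Twisting by a cocycle is full. -/
theorem exists_mtwistMap_eq : ∃ f : M ⟶ N, c.mtwistMap f n = g :=
  ⟨untw c g, mtwistMap_untw c g⟩

end GrothLib.QCohQuot20
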